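import Groth.Prelude.Def_QuadGrp
import Mathlib.LinearAlgebra.Transvection.Basic
import Mathlib.Tactic.Ring
import Mathlib.Tactic.Module

/-! Reflections and the Dickson condition for products of two of them. -/

namespace Groth.Agent.QuadCentre

open QuadGrp CliffordAlgebra

universe u v

variable {A : Type u} [CommRing A] {V : Type v} [AddCommGroup V] [Module A V]
  (q : QuadraticForm A V) {v w : V} {a b : A}

/-- The functional defining the reflection. -/
noncomputable def reflForm (v : V) (a : A) : Module.Dual A V := (-a) • QuadraticMap.polarBilin q v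

theorem reflForm_apply (v z : V) (a : A) :
    reflForm q v a z = -(a * QuadraticMap.polar q v z) := by
  simp [reflForm]

theorem transvection_involutive (h : a * q v = 1) :
    Function.Involutive (LinearMap.transvection (reflForm q v a) v) := by
  intro z
  simp only [LinearMap.transvection.apply, map_add, map_smul, reflForm_apply,
    QuadraticMap.polar_self, smul_eq_mul, two_nsmul]
  match_scalars
  · ring
  · linear_combination (2 * a * QuadraticMap.polar q v z) * h

/-- The reflection along a vector with unit value `q v`, `a` being the inverse of `q v`. -/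
noncomputable def refl (v : V) (a : A) (h : a * q v = 1) : V ≃ₗ[A] V :=
  LinearEquiv.ofInvolutive (LinearMap.transvection (reflForm q v a) v) (transvection_involutive q h)

theorem refl_apply (h : a * q v = 1) (z : V) :
    refl q v a h z = z - (a * QuadraticMap.polar q v z) • v := by
  change LinearMap.transvection (reflForm q v a) v z = _
  rw [LinearMap.transvection.apply, reflForm_apply, neg_smul, ← sub_eq_add_neg]

theorem refl_mem_O (h : a * q v = 1) : refl q v a h ∈ QuadGrp.O q := by
  rw [mem_O]
  intro z
  rw [refl_apply, sub_eq_add_neg, ← neg_smul, QuadraticMap.map_add (⇑q), QuadraticMap.map_smul,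
    QuadraticMap.polar_smul_right, smul_eq_mul, smul_eq_mul, QuadraticMap.polar_comm q z v]
  linear_combination (a * QuadraticMap.polar q v z ^ 2) * h

theorem det_refl [Module.Free A V] [Module.Finite A V] (h : a * q v = 1) :
    LinearMap.det (refl q v a h : V →ₗ[A] V) = -1 := by
  change LinearMap.det (LinearMap.transvection (reflForm q v a) v) = -1
  rw [LinearMap.transvection.det, reflForm_apply, QuadraticMap.polar_self, two_nsmul]
  linear_combination (-2 : A) * h

theorem det_refl_mul_refl [Module.Free A V] [Module.Finite A V] (h : a * q v = 1) (h' : b * q w = 1) :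
    LinearEquiv.det (refl q v a h * refl q w b h') = 1 := by
  rw [map_mul]
  ext
  rw [Units.val_mul, LinearEquiv.coe_det, LinearEquiv.coe_det, det_refl, det_refl, Units.val_one,
    neg_mul_neg, one_mul]

theorem refl_mul_refl_mem_O (h : a * q v = 1) (h' : b * q w = 1) :
    refl q v a h * refl q w b h' ∈ QuadGrp.O q :=
  (QuadGrp.O q).mul_mem (refl_mem_O q h) (refl_mem_O q h')

theorem ι_refl_mul (h : a * q v = 1) (z : V) :
    ι q (refl q v a h z) * ι q v = -(ι q v * ι q z) := by
  rw [refl_apply, map_sub, map_smul, sub_mul, smul_mul_assoc, ι_sq_scalar, ι_mul_ι_comm,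
    Algebra.smul_def, ← map_mul (algebraMap A (CliffordAlgebra q)),
    show a * QuadraticMap.polar q v z * q v = QuadraticMap.polar q v z by
      linear_combination (QuadraticMap.polar q v z) * h,
    QuadraticMap.polar_comm q v z]
  abel

theorem isDicksonTrivial_refl_mul_refl (h : a * q v = 1) (h' : b * q w = 1) :
    IsDicksonTrivial q (refl q v a h * refl q w b h') (refl_mul_refl_mem_O q h h') := by
  intro z hz
  set Φ := CliffordAlgebra.map (isometryOfMem q _ (refl_mul_refl_mem_O q h h'))
  let U : CliffordAlgebra q := ι q v * ι q w
  have hU : U ∈ CliffordAlgebra.even q := ι_mul_ι_mem_evenOdd_zero q v w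
  have hcomm : ∀ x, Φ x * U = U * x := by
    intro x
    induction x using CliffordAlgebra.induction with
    | algebraMap r => rw [AlgHom.commutes, Algebra.commutes]
    | ι m =>
      rw [map_apply_ι, isometryOfMem_apply, LinearEquiv.mul_apply]
      simp only [U]
      rw [← mul_assoc, ι_refl_mul, neg_mul, mul_assoc, ι_refl_mul, mul_neg, neg_neg, mul_assoc]
    | mul x y hx hy => rw [map_mul, mul_assoc, hy, ← mul_assoc, hx, mul_assoc]
    | add x y hx hy => rw [map_add, add_mul, hx, hy, mul_add]
  have hzU : U * (z : CliffordAlgebra q) = (z : CliffordAlgebra q) * U :=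
    congrArg Subtype.val (Subalgebra.mem_center_iff.1 hz ⟨U, hU⟩)
  have hinv : U * ((b * a) • (ι q w * ι q v)) = 1 := by
    simp only [U]
    rw [mul_smul_comm, mul_assoc, ← mul_assoc (ι q w), ι_sq_scalar, Algebra.commutes, ← mul_assoc,
      ι_sq_scalar, ← map_mul, Algebra.smul_def, ← map_mul,
      ← (algebraMap A (CliffordAlgebra q)).map_one]
    congr 1
    linear_combination (a * q v) * h' + h
  have := hcomm z
  rw [hzU] at this
  calc Φ z = Φ z * (U * ((b * a) • (ι q w * ι q v))) := by rw [hinv, mul_one]
    _ = (z : CliffordAlgebra q) * (U * ((b * a) • (ι q w * ι q v))) := by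
      rw [← mul_assoc, this, mul_assoc]
    _ = z := by rw [hinv, mul_one]

end Groth.Agent.QuadCentre
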