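import Mathlib.RingTheory.MvPolynomial.MonomialOrder
import Mathlib.RingTheory.Ideal.Maximal
import Mathlib.RingTheory.Ideal.Basic
import Mathlib.Tactic.Choose

/-! A family of polynomials whose values generate the unit ideal has no common nonzero annihilator. -/

namespace Groth.Agent.QuadCentre

open MvPolynomial

theorem eq_zero_of_mul_eq_zero_of_values {R : Type*} [CommRing R] {σ : Type*} [Finite σ]
    {ι : Type*} (f : ι → MvPolynomial σ R)
    (hf : ∀ I : Ideal R, I.IsMaximal → ∃ t, ∃ a : σ → R, MvPolynomial.eval a (f t) ∉ I)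
    (g : MvPolynomial σ R) (hg : ∀ t, g * f t = 0) : g = 0 := by
  classical
  induction hk : g.support.card using Nat.strong_induction_on generalizing g with
  | _ k ih =>
  by_contra hne
  subst hk
  haveI := Fintype.ofFinite σ
  obtain ⟨mo⟩ : Nonempty (MonomialOrder σ) := by
    letI : LinearOrder σ := LinearOrder.lift' (Fintype.equivFin σ) (Fintype.equivFin σ).injective
    haveI : WellFoundedGT σ := Finite.to_wellFoundedGT
    exact ⟨MonomialOrder.lex⟩
  set d := mo.degree g with hd
  have hgd : g.coeff d ≠ 0 := mo.leadingCoeff_ne_zero_iff.2 hne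
  -- every coefficient of every `f t` annihilates `g`
  have hcoef : ∀ t s, C (coeff s (f t)) * g = 0 := by
    intro t
    by_contra hcon
    push Not at hcon
    obtain ⟨s₀, hs₀⟩ := hcon
    let S := (f t).support.filter fun s => C (coeff s (f t)) * g ≠ 0
    have hS : S.Nonempty := ⟨s₀, Finset.mem_filter.2 ⟨by
      rw [mem_support_iff]; intro h; exact hs₀ (by rw [h, map_zero, zero_mul]), hs₀⟩⟩
    obtain ⟨s, hs, hsmax⟩ := S.exists_max_image mo.toSyn hS
    have hs' := (Finset.mem_filter.1 hs).2
    have h0 : coeff s (f t) * g.coeff d = 0 := by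
      have h := congrArg (coeff (d + s)) (hg t)
      rw [coeff_zero, coeff_mul] at h
      rw [Finset.sum_eq_single (d, s), mul_comm] at h
      · exact h
      · rintro ⟨a, b⟩ hab hne'
        rw [Finset.mem_antidiagonal] at hab
        simp only
        by_cases hb : C (coeff b (f t)) * g = 0
        · have := congrArg (coeff a) hb
          rwa [coeff_C_mul, coeff_zero, mul_comm] at this
        by_cases ha : coeff a g = 0
        · rw [ha, zero_mul]
        exfalso
        apply hne'
        have hale : mo.toSyn a ≤ mo.toSyn d := mo.le_degree (mem_support_iff.2 ha)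
        have hble : mo.toSyn b ≤ mo.toSyn s := hsmax b (Finset.mem_filter.2
          ⟨by rw [mem_support_iff]; intro h; exact hb (by rw [h, map_zero, zero_mul]), hb⟩)
        have heq : mo.toSyn a + mo.toSyn b = mo.toSyn d + mo.toSyn s := by
          rw [← map_add, ← map_add, hab]
        have ha' : mo.toSyn a = mo.toSyn d := by
          rcases hale.lt_or_eq with h' | h'
          · exact absurd heq (ne_of_lt (lt_of_lt_of_le (add_lt_add_left h' _) (by gcongr)))
          · exact h'
        have hb' : mo.toSyn b = mo.toSyn s := by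
          rwa [ha', add_right_inj] at heq
        rw [mo.toSyn.injective ha', mo.toSyn.injective hb']
      · intro h'
        exact (h' (Finset.mem_antidiagonal.2 rfl)).elim
    apply hs'
    refine ih _ ?_ _ (fun u => by rw [mul_assoc, hg u, mul_zero]) rfl
    refine Finset.card_lt_card ((Finset.ssubset_iff_of_subset ?_).2 ⟨d, mem_support_iff.2 hgd, ?_⟩)
    · intro x hx
      rw [mem_support_iff, coeff_C_mul] at hx
      exact mem_support_iff.2 (right_ne_zero_of_mul hx)
    · rw [notMem_support_iff, coeff_C_mul, h0]
  -- a coefficient of `g` kills all the values, hence is zero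
  let J : Ideal R := LinearMap.ker (LinearMap.toSpanSingleton R R (g.coeff d))
  have hJ : ∀ {c : R}, c * g.coeff d = 0 → c ∈ J := fun {c} h => by
    simpa [J, LinearMap.mem_ker] using h
  have hJne : J ≠ ⊤ := by
    intro h
    apply hgd
    have h1 : (1 : R) ∈ J := h ▸ Submodule.mem_top
    simpa [J, LinearMap.mem_ker] using h1
  obtain ⟨I, hI, hJI⟩ := Ideal.exists_le_maximal J hJne
  obtain ⟨t, a, hta⟩ := hf I hI
  apply hta
  rw [MvPolynomial.eval_eq]
  refine Submodule.sum_mem _ fun s _ => Ideal.mul_mem_right _ _ (hJI (hJ ?_))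
  have := congrArg (coeff d) (hcoef t s)
  rwa [coeff_C_mul, coeff_zero] at this

theorem eq_zero_of_mul_eq_zero_of_value {R : Type*} [CommRing R] {σ : Type*} [Finite σ]
    (f : MvPolynomial σ R)
    (hf : ∀ I : Ideal R, I.IsMaximal → ∃ a : σ → R, MvPolynomial.eval a f ∉ I)
    (g : MvPolynomial σ R) (hg : g * f = 0) : g = 0 :=
  eq_zero_of_mul_eq_zero_of_values (fun _ : Unit => f) (fun I hI => ⟨(), hf I hI⟩) g fun _ => hg

end Groth.Agent.QuadCentre
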