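import Groth.Agent.QuadCentre.Rank
import Groth.Agent.QuadCentre.Nzd
import Groth.Agent.QuadCentre.Reflection
import Mathlib.RingTheory.Localization.Away.Basic
import Mathlib.RingTheory.TensorProduct.Free
import Mathlib.LinearAlgebra.TensorProduct.Tower
import Mathlib.Tactic.LinearCombination

/-! An isometry commuting with all products of two reflections, over all algebras, is a scalar. -/

namespace Groth.Agent.QuadCentre

open QuadGrp TensorProduct

universe u

variable {R : Type u} [CommRing R] {n : ℕ} (Q : QuadraticForm R (Fin n → R))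

section coords

variable (A : Type u) [CommRing A] [Algebra R A]

/-- The standard basis of `A ⊗ Rⁿ`. -/
noncomputable def bs : Module.Basis (Fin n) A (A ⊗[R] (Fin n → R)) :=
  Algebra.TensorProduct.basis A (Pi.basisFun R (Fin n))

theorem bs_apply (i : Fin n) : bs A i = (1 : A) ⊗ₜ[R] (Pi.single i 1 : Fin n → R) := by
  simp [bs, Algebra.TensorProduct.basis_apply, Pi.basisFun_apply]

theorem baseChangeForm_tmul (a : A) (m : Fin n → R) :
    baseChangeForm A Q (a ⊗ₜ[R] m) = a * a * algebraMap R A (Q m) := by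
  change AlgebraTensorModule.rid R A A (baseChange A Q (a ⊗ₜ[R] m)) = _
  rw [baseChange_tmul, AlgebraTensorModule.rid_tmul, Algebra.smul_def, mul_comm]

theorem baseChangeForm_vec (c : Fin n → A) :
    baseChangeForm A Q (∑ i, c i • bs A i) =
      ∑ i, ∑ j, algebraMap R A (bilinLift Q (Pi.single i 1) (Pi.single j 1)) * (c i * c j) := by
  change AlgebraTensorModule.rid R A A
      (((bilinLift Q).baseChange A) (∑ i, c i • bs A i) (∑ i, c i • bs A i)) = _
  simp only [map_sum, LinearMap.map_smul, LinearMap.sum_apply, LinearMap.smul_apply, bs_apply,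
    LinearMap.BilinMap.baseChange_tmul, map_smul, smul_eq_mul, mul_one,
    AlgebraTensorModule.rid_tmul, Algebra.smul_def, Finset.mul_sum]
  rw [Finset.sum_comm]
  refine Finset.sum_congr rfl fun i _ => Finset.sum_congr rfl fun j _ => ?_
  ring

theorem polar_bs (i j : Fin n) :
    QuadraticMap.polar (baseChangeForm A Q) (bs A i) (bs A j) = algebraMap R A (pm Q i j) := by
  simp only [QuadraticMap.polar, bs_apply, ← TensorProduct.tmul_add, baseChangeForm_tmul, pm,
    mul_one, one_mul, map_sub]

theorem polar_vec (c : Fin n → A) (j : Fin n) :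
    QuadraticMap.polar (baseChangeForm A Q) (∑ i, c i • bs A i) (bs A j) =
      ∑ i, algebraMap R A (pm Q i j) * c i := by
  rw [← QuadraticMap.polarBilin_apply_apply]
  simp only [map_sum, LinearMap.sum_apply, LinearMap.map_smul, LinearMap.smul_apply,
    QuadraticMap.polarBilin_apply_apply, polar_bs, smul_eq_mul]
  exact Finset.sum_congr rfl fun i _ => mul_comm _ _

theorem repr_baseChange (g : (Fin n → R) ≃ₗ[R] (Fin n → R)) (c : Fin n → A) (k : Fin n) :
    (bs A).repr (g.baseChange R A (Fin n → R) (Fin n → R) (∑ i, c i • bs A i)) k =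
      ∑ j, algebraMap R A (g (Pi.single j 1) k) * c j := by
  simp only [map_sum, map_smul, bs_apply]
  simp [bs, Algebra.TensorProduct.basis_repr_tmul, Algebra.smul_def, mul_comm]

theorem repr_vec (c : Fin n → A) (k : Fin n) : (bs A).repr (∑ i, c i • bs (R := R) A i) k = c k := by
  rw [Module.Basis.repr_sum_self]

theorem mem_O_baseChange {h : (A ⊗[R] (Fin n → R)) ≃ₗ[A] (A ⊗[R] (Fin n → R))} :
    h ∈ O (baseChangeForm A Q) ↔ h ∈ QuadGrp.orth Q A := by
  rw [mem_O, QuadGrp.orth, mem_O]
  exact forall_congr' fun v => (AlgebraTensorModule.rid R A A).injective.eq_iff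

end coords

theorem exists_notMem (hQ : RankTwo Q) (I : Ideal R) (hI : I.IsMaximal) : ∃ v, Q v ∉ I := by
  by_contra hcon
  push Not at hcon
  obtain ⟨i, j, k, l, h⟩ := hQ I hI
  refine h (I.sub_mem (I.mul_mem_right _ ?_) (I.mul_mem_right _ ?_)) <;>
    exact I.sub_mem (I.sub_mem (hcon _) (hcon _)) (hcon _)

theorem eq_zero_of_mul_values (hQ : RankTwo Q) (r : R) (h : ∀ v, r * Q v = 0) : r = 0 := by
  by_contra hr
  let J : Ideal R := LinearMap.ker (LinearMap.toSpanSingleton R R r)
  have hJne : J ≠ ⊤ := by
    intro hJ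
    apply hr
    have h1 : (1 : R) ∈ J := hJ ▸ Submodule.mem_top
    simpa [J, LinearMap.mem_ker] using h1
  obtain ⟨I, hI, hJI⟩ := Ideal.exists_le_maximal J hJne
  obtain ⟨v, hv⟩ := exists_notMem Q hQ I hI
  apply hv
  apply hJI
  simp [J, LinearMap.mem_ker, mul_comm, h v]

section

open MvPolynomial

variable (n) in
/-- The first generic vector. -/
noncomputable def xX (i : Fin n) : MvPolynomial (Fin n ⊕ Fin n) R := X (Sum.inl i)

variable (n) in
/-- The second generic vector. -/
noncomputable def yX (i : Fin n) : MvPolynomial (Fin n ⊕ Fin n) R := X (Sum.inr i)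

/-- The value of the form at a vector of polynomials. -/
noncomputable def qP (c : Fin n → MvPolynomial (Fin n ⊕ Fin n) R) : MvPolynomial (Fin n ⊕ Fin n) R :=
  ∑ i, ∑ j, C (bilinLift Q (Pi.single i 1) (Pi.single j 1)) * (c i * c j)

/-- The polar value at a vector of polynomials and a basis vector. -/
noncomputable def bP (c : Fin n → MvPolynomial (Fin n ⊕ Fin n) R) (j : Fin n) :
    MvPolynomial (Fin n ⊕ Fin n) R :=
  ∑ i, C (pm Q i j) * c i

/-- The coordinates of the image of the first generic vector. -/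
noncomputable def gX (g : (Fin n → R) ≃ₗ[R] (Fin n → R)) (i : Fin n) :
    MvPolynomial (Fin n ⊕ Fin n) R :=
  ∑ j, C (g (Pi.single j 1) i) * xX n j

theorem eval_qP (c : Fin n → MvPolynomial (Fin n ⊕ Fin n) R) (a : Fin n ⊕ Fin n → R) :
    eval a (qP Q c) = Q (fun i => eval a (c i)) := by
  conv_rhs => rw [← bilinLift_spec Q, LinearMap.BilinMap.toQuadraticMap_apply,
    pi_eq_sum_univ' (fun i => eval a (c i))]
  simp only [qP, map_sum, map_mul, eval_C, LinearMap.sum_apply, map_smul, LinearMap.smul_apply,
    smul_eq_mul, Finset.mul_sum]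
  rw [Finset.sum_comm]
  refine Finset.sum_congr rfl fun i _ => Finset.sum_congr rfl fun j _ => ?_
  ring

theorem eval_gX (g : (Fin n → R) ≃ₗ[R] (Fin n → R)) (a : Fin n ⊕ Fin n → R) (i : Fin n) :
    eval a (gX g i) = g (fun j => a (Sum.inl j)) i := by
  conv_rhs => rw [pi_eq_sum_univ' (fun j => a (Sum.inl j)), map_sum, Finset.sum_apply]
  simp [gX, xX, map_sum, map_smul, mul_comm]

end

set_option maxHeartbeats 1000000 in
/-- The key step: the minors with the image of the first generic vector vanish. -/
theorem minors_eq_zero (hQ : RankTwo Q) (g : (Fin n → R) ≃ₗ[R] (Fin n → R))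
    (hcomm : ∀ (A : Type u) [CommRing A] [Algebra R A] (v w : A ⊗[R] (Fin n → R)) (a b : A)
      (h : a * baseChangeForm A Q v = 1) (h' : b * baseChangeForm A Q w = 1),
      g.baseChange R A (Fin n → R) (Fin n → R) * (refl _ v a h * refl _ w b h') =
        refl _ v a h * refl _ w b h' * g.baseChange R A (Fin n → R) (Fin n → R))
    (i j l : Fin n) :
    gX g i * (xX n j * yX n l - xX n l * yX n j) - gX g j * (xX n i * yX n l - xX n l * yX n i)
      + gX g l * (xX n i * yX n j - xX n j * yX n i) = (0 : MvPolynomial (Fin n ⊕ Fin n) R) := by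
  classical
  let P := MvPolynomial (Fin n ⊕ Fin n) R
  let d : P := qP Q (xX n) * qP Q (yX n)
  let A := Localization.Away d
  let φ : P →+* A := algebraMap P A
  have hφC : ∀ r, φ (MvPolynomial.C r) = algebraMap R A r := fun r =>
    (IsScalarTower.algebraMap_apply R P A r).symm
  let x : A ⊗[R] (Fin n → R) := ∑ k, φ (xX n k) • bs A k
  let y : A ⊗[R] (Fin n → R) := ∑ k, φ (yX n k) • bs A k
  have hq : ∀ c : Fin n → P, baseChangeForm A Q (∑ k, φ (c k) • bs A k) = φ (qP Q c) := by
    intro c
    rw [baseChangeForm_vec]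
    simp [qP, map_sum, map_mul, hφC]
  have hud : IsUnit (φ d) := IsLocalization.Away.algebraMap_isUnit d
  have hux : IsUnit (φ (qP Q (xX n))) := by rw [map_mul] at hud; exact (IsUnit.mul_iff.1 hud).1
  have huy : IsUnit (φ (qP Q (yX n))) := by rw [map_mul] at hud; exact (IsUnit.mul_iff.1 hud).2
  obtain ⟨a, ha⟩ := hux.exists_left_inv
  obtain ⟨b, hb⟩ := huy.exists_left_inv
  have hx : a * baseChangeForm A Q x = 1 := by rw [hq]; exact ha
  have hy : b * baseChangeForm A Q y = 1 := by rw [hq]; exact hb
  let gA := g.baseChange R A (Fin n → R) (Fin n → R)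
  let E : P := gX g i * (xX n j * yX n l - xX n l * yX n j)
    - gX g j * (xX n i * yX n l - xX n l * yX n i) + gX g l * (xX n i * yX n j - xX n j * yX n i)
  let Δ : Fin n → Fin n → P := fun k m =>
    bP Q (yX n) m * bP Q (xX n) k - bP Q (yX n) k * bP Q (xX n) m
  have key : ∀ k m, φ (E * Δ k m) = 0 := by
    intro k m
    let p : Fin n → A := fun k => QuadraticMap.polar (baseChangeForm A Q) y (bs A k)
    let r : Fin n → A := fun k => QuadraticMap.polar (baseChangeForm A Q) x (bs A k)
    let z : A ⊗[R] (Fin n → R) := p m • bs A k - p k • bs A m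
    have hyz : QuadraticMap.polar (baseChangeForm A Q) y z = 0 := by
      simp only [z, QuadraticMap.polar_sub_right, QuadraticMap.polar_smul_right, smul_eq_mul, p]
      ring
    have hxz : QuadraticMap.polar (baseChangeForm A Q) x z = φ (Δ k m) := by
      simp only [z, QuadraticMap.polar_sub_right, QuadraticMap.polar_smul_right, smul_eq_mul, p]
      simp [x, y, polar_vec, Δ, bP, map_sum, map_sub, map_mul, hφC]
    have hc := LinearEquiv.congr_fun (hcomm A x y a b hx hy) z
    rw [LinearEquiv.mul_apply, LinearEquiv.mul_apply, LinearEquiv.mul_apply, LinearEquiv.mul_apply,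
      refl_apply _ hy z, hyz, mul_zero, zero_smul, sub_zero, refl_apply _ hx z, hxz, map_sub,
      map_smul, refl_apply, refl_apply] at hc
    set w := gA z with hw
    set c₂ := b * QuadraticMap.polar (baseChangeForm A Q) y w
    set c₁ := a * QuadraticMap.polar (baseChangeForm A Q) x (w - c₂ • y)
    have hc' : (a * φ (Δ k m)) • gA x = c₂ • y + c₁ • x := by
      rw [sub_sub] at hc
      exact sub_right_injective hc
    have hco : ∀ t, (a * φ (Δ k m)) * φ (gX g t) = c₂ * φ (yX n t) + c₁ * φ (xX n t) := by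
      intro t
      have h1 := congrArg (fun v => (bs A).repr v t) hc'
      simp only [map_smul, map_add, Finsupp.smul_apply, Finsupp.add_apply, smul_eq_mul, x, y, gA,
        repr_baseChange, repr_vec] at h1
      simpa [gX, map_sum, map_mul, hφC] using h1
    have hz : a * φ (Δ k m) * φ E = 0 := by
      simp only [E, map_add, map_sub, map_mul]
      linear_combination (φ (xX n j) * φ (yX n l) - φ (xX n l) * φ (yX n j)) * hco i
        - (φ (xX n i) * φ (yX n l) - φ (xX n l) * φ (yX n i)) * hco j
        + (φ (xX n i) * φ (yX n j) - φ (xX n j) * φ (yX n i)) * hco l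
    have := congrArg (fun v => φ (qP Q (xX n)) * v) hz
    simp only [mul_zero, ← mul_assoc] at this
    rw [mul_comm _ a, ha, one_mul] at this
    rw [map_mul, mul_comm]; exact this
  have hqv : ∀ s : Fin n → Fin n ⊕ Fin n, Function.Injective s → ∀ I : Ideal R, I.IsMaximal →
      ∃ pt : Fin n ⊕ Fin n → R, MvPolynomial.eval pt (qP Q fun k => MvPolynomial.X (s k)) ∉ I := by
    intro s hs I hI
    obtain ⟨v, hv⟩ := exists_notMem Q hQ I hI
    refine ⟨Function.extend s v 0, ?_⟩
    rw [eval_qP]
    simpa [hs.extend_apply] using hv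
  have hcancel : ∀ (N : ℕ) (f : P), f * d ^ N = 0 → f = 0 := by
    intro N
    induction N with
    | zero => intro f hf; simpa using hf
    | succ N ih =>
      intro f hf
      rw [pow_succ, ← mul_assoc] at hf
      refine ih f (eq_zero_of_mul_eq_zero_of_value _ (hqv Sum.inl Sum.inl_injective) _ ?_)
      refine eq_zero_of_mul_eq_zero_of_value _ (hqv Sum.inr Sum.inr_injective) _ ?_
      rw [mul_assoc]
      exact hf
  refine eq_zero_of_mul_eq_zero_of_values (fun t : Fin n × Fin n => Δ t.1 t.2) (fun I hI => ?_) E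
    fun t => ?_
  · obtain ⟨i', j', k, m, h⟩ := hQ I hI
    refine ⟨(k, m), Sum.elim (Pi.single i' 1) (Pi.single j' 1), fun h' => h ?_⟩
    have e : MvPolynomial.eval (Sum.elim (Pi.single i' 1) (Pi.single j' 1)) (Δ k m) =
        pm Q j' m * pm Q i' k - pm Q j' k * pm Q i' m := by
      simp [Δ, bP, xX, yX, Pi.single_apply]
    rw [e] at h'
    convert h' using 1
    ring
  · obtain ⟨⟨_, N, rfl⟩, hN⟩ := (IsLocalization.map_eq_zero_iff (Submonoid.powers d) A _).1
      (key t.1 t.2)
    exact hcancel N _ (by rw [mul_comm]; exact hN)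

/-- An isometry commuting with all products of two reflections is a scalar of square one. -/
theorem exists_scalar (hn : 3 ≤ n) (hQ : RankTwo Q) (g : (Fin n → R) ≃ₗ[R] (Fin n → R))
    (hg : g ∈ O Q)
    (hcomm : ∀ (A : Type u) [CommRing A] [Algebra R A] (v w : A ⊗[R] (Fin n → R)) (a b : A)
      (h : a * baseChangeForm A Q v = 1) (h' : b * baseChangeForm A Q w = 1),
      g.baseChange R A (Fin n → R) (Fin n → R) * (refl _ v a h * refl _ w b h') =
        refl _ v a h * refl _ w b h' * g.baseChange R A (Fin n → R) (Fin n → R)) :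
    ∃ c : R, c * c = 1 ∧ ∀ v, g v = c • v := by
  classical
  let G : Fin n → Fin n → R := fun i j => g (Pi.single j 1) i
  have hE : ∀ (i j l : Fin n) (a c : Fin n → R),
      g a i * (a j * c l - a l * c j) - g a j * (a i * c l - a l * c i)
        + g a l * (a i * c j - a j * c i) = 0 := by
    intro i j l a c
    have h := congrArg (MvPolynomial.eval (Sum.elim a c)) (minors_eq_zero Q hQ g hcomm i j l)
    simpa [eval_gX, xX, yX] using h
  have hex : ∀ i j : Fin n, ∃ l, l ≠ i ∧ l ≠ j := by
    intro i j
    have h2 : ({i, j} : Finset (Fin n)).card < (Finset.univ : Finset (Fin n)).card := by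
      rw [Finset.card_univ, Fintype.card_fin]; exact Finset.card_le_two.trans_lt (by omega)
    obtain ⟨l, -, hl⟩ := Finset.exists_mem_notMem_of_card_lt_card h2
    exact ⟨l, by simpa [not_or] using hl⟩
  have hoff : ∀ i j, i ≠ j → G i j = 0 := by
    intro i j hij
    obtain ⟨l, hli, hlj⟩ := hex i j
    have := hE i j l (Pi.single j 1) (Pi.single l 1)
    simpa [G, Pi.single_apply, hij, hij.symm, hli, hli.symm, hlj, hlj.symm] using this
  have hdiag : ∀ i j, G i i = G j j := by
    intro i j
    by_cases hij : i = j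
    · rw [hij]
    obtain ⟨l, hli, hlj⟩ := hex i j
    have h := hE i j l (Pi.single i 1 + Pi.single j 1) (Pi.single l 1)
    have e1 := hoff i j hij
    have e2 := hoff j i (Ne.symm hij)
    simp only [G] at e1 e2 ⊢
    simpa [map_add, e1, e2, Pi.single_apply, hij, Ne.symm hij, hli, hli.symm, hlj, hlj.symm,
      sub_eq_zero] using h
  let c : R := G ⟨0, by omega⟩ ⟨0, by omega⟩
  have hgv : ∀ v, g v = c • v := by
    intro v
    ext i
    conv_lhs => rw [pi_eq_sum_univ' v, map_sum, Finset.sum_apply]
    rw [Finset.sum_eq_single i]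
    · rw [map_smul, Pi.smul_apply, Pi.smul_apply, smul_eq_mul, smul_eq_mul,
        show g (Pi.single i 1) i = c from hdiag i _, mul_comm]
    · intro j _ hj
      rw [map_smul, Pi.smul_apply, show g (Pi.single j 1) i = 0 from hoff i j (Ne.symm hj), smul_zero]
    · simp
  refine ⟨c, ?_, hgv⟩
  rw [← sub_eq_zero]
  refine eq_zero_of_mul_values Q hQ _ fun v => ?_
  have h := (mem_O Q g).1 hg v
  rw [hgv, QuadraticMap.map_smul, smul_eq_mul] at h
  linear_combination h

theorem commute_of_scalar (g : (Fin n → R) ≃ₗ[R] (Fin n → R)) {c : R} (hc : ∀ v, g v = c • v)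
    (A : Type u) [CommRing A] [Algebra R A]
    (h : (A ⊗[R] (Fin n → R)) ≃ₗ[A] (A ⊗[R] (Fin n → R))) :
    g.baseChange R A (Fin n → R) (Fin n → R) * h = h * g.baseChange R A (Fin n → R) (Fin n → R) := by
  have hs : ∀ z, g.baseChange R A (Fin n → R) (Fin n → R) z = algebraMap R A c • z := by
    intro z
    induction z using TensorProduct.induction_on with
    | zero => simp
    | tmul a m => simp [hc, TensorProduct.tmul_smul, algebraMap_smul, TensorProduct.smul_tmul']
    | add a b ha hb => rw [map_add, ha, hb, smul_add]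
  ext z
  rw [LinearEquiv.mul_apply, LinearEquiv.mul_apply, hs, hs, map_smul]

end Groth.Agent.QuadCentre
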