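import Groth.Prelude.Def_QuadGrp
import Mathlib.LinearAlgebra.Matrix.ToLinearEquiv
import Mathlib.LinearAlgebra.Matrix.Adjugate
import Mathlib.GroupTheory.Perm.Cycle.Type
import Mathlib.RingTheory.Ideal.Quotient.Basic
import Mathlib.Tactic.LinearCombination
import Mathlib.Algebra.MvPolynomial.Degrees
import Mathlib.Algebra.CharP.Defs

/-! For a non-degenerate quadratic form of rank at least two, the `2 × 2` minors of the polar
matrix generate the unit ideal. -/

namespace Groth.Agent.QuadCentre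

open QuadGrp

universe u

/-- The entries of the polar matrix in the standard basis. -/
noncomputable def pm {R : Type u} [CommRing R] {n : ℕ} (Q : QuadraticForm R (Fin n → R))
    (i j : Fin n) : R :=
  QuadraticMap.polar Q (Pi.single i 1) (Pi.single j 1)

theorem pm_comm {R : Type u} [CommRing R] {n : ℕ} (Q : QuadraticForm R (Fin n → R)) (i j : Fin n) :
    pm Q i j = pm Q j i := QuadraticMap.polar_comm _ _ _

theorem pm_self {R : Type u} [CommRing R] {n : ℕ} (Q : QuadraticForm R (Fin n → R)) (i : Fin n) :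
    pm Q i i = 2 * Q (Pi.single i 1) := by
  unfold pm
  rw [QuadraticMap.polar_self, two_nsmul, two_mul]

/-- The `2 × 2` minors of the polar matrix generate the unit ideal. -/
def RankTwo {R : Type u} [CommRing R] {n : ℕ} (Q : QuadraticForm R (Fin n → R)) : Prop :=
  ∀ I : Ideal R, I.IsMaximal → ∃ i j k l, pm Q i k * pm Q j l - pm Q i l * pm Q j k ∉ I

theorem rankTwo_of_isRegular {R : Type u} [CommRing R] {n : ℕ} (hn : 2 ≤ n)
    (Q : QuadraticForm R (Fin n → R)) (hQ : QuadGrp.IsRegular Q) : RankTwo Q := by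
  classical
  have hc : ∀ a : Fin n, ∃ c : Fin n → R, ∀ i, ∑ k, c k * pm Q k i = if i = a then 1 else 0 := by
    intro a
    obtain ⟨c, hc⟩ := hQ.2 (LinearMap.proj a)
    refine ⟨c, fun i => ?_⟩
    have h := LinearMap.congr_fun hc (Pi.single i 1)
    rw [LinearMap.proj_apply] at h
    calc ∑ k, c k * pm Q k i
        = (QuadraticMap.polarBilin Q c) (Pi.single i 1) := by
          conv_rhs => rw [pi_eq_sum_univ' c]
          simp [map_sum, LinearMap.sum_apply, pm, QuadraticMap.polarBilin_apply_apply]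
      _ = _ := by
          rw [h, Pi.single_apply]
          simp only [eq_comm]
  choose c hc using hc
  intro I hI
  by_contra hcon
  push Not at hcon
  let i₀ : Fin n := ⟨0, by omega⟩
  let i₁ : Fin n := ⟨1, by omega⟩
  have key : ∑ k, ∑ l, (pm Q k i₀ * pm Q l i₁ - pm Q l i₀ * pm Q k i₁) * (c i₀ k * c i₁ l) = 1 := by
    have e00 := hc i₀ i₀
    have e11 := hc i₁ i₁
    have e01 := hc i₁ i₀
    have ne : i₀ ≠ i₁ := by simp [i₀, i₁]
    simp only [if_neg ne, if_true] at e00 e11 e01
    calc ∑ k, ∑ l, (pm Q k i₀ * pm Q l i₁ - pm Q l i₀ * pm Q k i₁) * (c i₀ k * c i₁ l)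
        = (∑ k, c i₀ k * pm Q k i₀) * (∑ l, c i₁ l * pm Q l i₁)
            - (∑ k, c i₀ k * pm Q k i₁) * (∑ l, c i₁ l * pm Q l i₀) := by
          simp only [Finset.sum_mul_sum, ← Finset.sum_sub_distrib]
          refine Finset.sum_congr rfl fun k _ => Finset.sum_congr rfl fun l _ => ?_
          ring
      _ = 1 := by rw [e00, e11, e01]; ring
  apply hI.ne_top
  rw [Ideal.eq_top_iff_one, ← key]
  exact Submodule.sum_mem _ fun k _ => Submodule.sum_mem _ fun l _ => I.mul_mem_right _ (by rw [mul_comm (pm Q l i₀)]; exact hcon k l i₀ i₁)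

theorem det_map_discUniv_eq_zero {n : ℕ} (hn : Odd n) {K : Type*} [CommRing K] (hK : (2 : K) = 0)
    (φ : MvPolynomial (Sym2 (Fin n)) ℤ →+* K) : φ (discUniv n) = 0 := by
  classical
  unfold discUniv
  rw [RingHom.map_det, Matrix.det_apply]
  set M := φ.mapMatrix (univPolarMat n) with hM
  have hsymm : ∀ i j, M i j = M j i := by
    intro i j
    simp only [hM, RingHom.mapMatrix_apply, Matrix.map_apply, univPolarMat, Matrix.of_apply]
    by_cases h : i = j
    · subst h; rfl
    · rw [if_neg h, if_neg (Ne.symm h), Sym2.eq_swap]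
  have hdiag : ∀ i, M i i = 0 := by
    intro i
    have h2 : φ 2 = 0 := by rw [map_ofNat]; exact hK
    simp [hM, univPolarMat, map_mul, h2]
  have h2 : ∀ a : K, a + a = 0 := fun a => by rw [← two_mul, hK, zero_mul]
  refine Finset.sum_involution (fun σ _ => σ⁻¹) (fun σ _ => ?_) (fun σ _ h => ?_)
    (fun σ _ => Finset.mem_univ _) (fun σ _ => inv_inv σ)
  · have hp : ∏ i, M (σ⁻¹ i) i = ∏ i, M (σ i) i := by
      conv_rhs => rw [← Equiv.prod_comp σ⁻¹]
      refine Finset.prod_congr rfl fun i _ => ?_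
      rw [hsymm]; simp
    rw [hp, Equiv.Perm.sign_inv, h2]
  · intro hσ
    apply h
    haveI : Fact (Nat.Prime 2) := ⟨Nat.prime_two⟩
    obtain ⟨i, hi⟩ := Equiv.Perm.exists_fixed_point_of_prime (p := 2) (n := 1) (σ := σ)
      (by simpa [Fintype.card_fin, ← even_iff_two_dvd] using hn)
      (by rw [pow_one, sq]; exact (mul_eq_one_iff_eq_inv).2 hσ.symm)
    rw [Finset.prod_eq_zero (Finset.mem_univ i) (by rw [hi, hdiag]), smul_zero]

theorem two_mul_halfDiscUniv {n : ℕ} (hn : Odd n) :
    2 * halfDiscUniv n = discUniv n := by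
  ext s
  have h := det_map_discUniv_eq_zero hn (K := MvPolynomial (Sym2 (Fin n)) (ZMod 2))
    (by rw [← map_ofNat (MvPolynomial.C (R := ZMod 2) (σ := Sym2 (Fin n))) 2]; exact map_zero _)
    (MvPolynomial.map (Int.castRingHom (ZMod 2)) : MvPolynomial (Sym2 (Fin n)) ℤ →+* _)
  have h2 : (2 : ℤ) ∣ MvPolynomial.coeff s (discUniv n) := by
    have := congrArg (MvPolynomial.coeff s) h
    rw [MvPolynomial.coeff_map, MvPolynomial.coeff_zero, eq_intCast,
      ZMod.intCast_zmod_eq_zero_iff_dvd] at this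
    simpa using this
  rw [two_mul, MvPolynomial.coeff_add, ← two_mul, coeff_halfDiscUniv, Int.mul_ediv_cancel' h2]

theorem coeffs_pm {R : Type u} [CommRing R] {n : ℕ} (Q : QuadraticForm R (Fin n → R))
    {i j : Fin n} (h : i ≠ j) :
    coeffs (Pi.basisFun R (Fin n)) (LinearEquiv.refl R R) Q (Sym2.mk i j) = pm Q i j := by
  simp [coeffs_mk, h, pm, Pi.basisFun_apply]

theorem rankTwo_of_isSemiregular {R : Type u} [CommRing R] {n : ℕ} (hn : 2 ≤ n) (ho : Odd n)
    (Q : QuadraticForm R (Fin n → R))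
    (hQ : QuadGrp.IsSemiregular (Pi.basisFun R (Fin n)) (LinearEquiv.refl R R) Q) : RankTwo Q := by
  classical
  intro I hI
  by_contra hcon
  push Not at hcon
  letI := Ideal.Quotient.field I
  let π := Ideal.Quotient.mk I
  let a : Sym2 (Fin n) → R := coeffs (Pi.basisFun R (Fin n)) (LinearEquiv.refl R R) Q
  let φ : MvPolynomial (Sym2 (Fin n)) ℤ →+* R ⧸ I :=
    π.comp (MvPolynomial.eval₂Hom (Int.castRingHom R) a)
  have hu : IsUnit (φ (halfDiscUniv n)) := (hQ : IsUnit _).map π
  let M : Matrix (Fin n) (Fin n) (R ⧸ I) := φ.mapMatrix (univPolarMat n)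
  have hM : ∀ i j, M i j = π (pm Q i j) := by
    intro i j
    by_cases h : i = j
    · subst h
      simp [M, φ, univPolarMat, a, pm_self, coeffs_mk, Pi.basisFun_apply, map_ofNat, map_mul]
    · simp [M, φ, univPolarMat, a, h, coeffs_pm]
  have hmin : ∀ i j k l, M i k * M j l = M i l * M j k := by
    intro i j k l
    rw [hM, hM, hM, hM, ← map_mul, ← map_mul]
    exact Ideal.Quotient.eq.2 (hcon i j k l)
  let i₀ : Fin n := ⟨0, by omega⟩
  let i₁ : Fin n := ⟨1, by omega⟩
  have ne : i₀ ≠ i₁ := by simp [i₀, i₁]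
  have hdet : M.det = 0 := by
    by_cases h0 : ∀ k, M i₀ k = 0
    · exact Matrix.det_eq_zero_of_row_eq_zero i₀ h0
    push Not at h0
    obtain ⟨k, hk⟩ := h0
    apply Matrix.exists_vecMul_eq_zero_iff.1
    refine ⟨Pi.single i₀ (M i₁ k) - Pi.single i₁ (M i₀ k), fun h => hk ?_, ?_⟩
    · have := congrFun h i₁
      simpa [Pi.single_apply, ne.symm] using this
    · ext l
      rw [Matrix.sub_vecMul, Pi.sub_apply, Matrix.single_vecMul, Matrix.single_vecMul, Pi.zero_apply]
      simp only [Pi.smul_apply, smul_eq_mul, Matrix.row_apply]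
      linear_combination hmin i₁ i₀ k l
  have hdisc : φ (discUniv n) = 0 := by
    rw [discUniv, RingHom.map_det]; exact hdet
  by_cases h2 : (2 : R ⧸ I) = 0
  swap
  · rw [← two_mul_halfDiscUniv ho, map_mul, map_ofNat] at hdisc
    exact hu.ne_zero ((mul_eq_zero.1 hdisc).resolve_left h2)
  -- characteristic two: the off-diagonal entries vanish
  have hoff : ∀ i j, i ≠ j → M i j = 0 := by
    intro i j hij
    have h := hmin i j i j
    rw [show M i i = 0 by rw [hM, pm_self, map_mul, map_ofNat, h2, zero_mul], zero_mul,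
      show M j i = M i j by rw [hM, hM, pm_comm]] at h
    exact mul_self_eq_zero.1 h.symm
  let ψ : MvPolynomial (Sym2 (Fin n)) ℤ →+* MvPolynomial (Sym2 (Fin n)) ℤ :=
    MvPolynomial.eval₂Hom MvPolynomial.C fun s => if s.IsDiag then MvPolynomial.X s else 0
  have hψ : φ.comp ψ = φ := by
    apply MvPolynomial.ringHom_ext
    · intro r; simp [ψ]
    · intro s
      induction s using Sym2.ind with
      | h i j =>
        by_cases h : i = j
        · simp [ψ, h]
        · have := hoff i j h
          simp only [M, RingHom.mapMatrix_apply, Matrix.map_apply, univPolarMat, Matrix.of_apply,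
            if_neg h] at this
          simp [ψ, h, this]
  have hψd : ψ (discUniv n) = 2 ^ n * ∏ i, MvPolynomial.X (Sym2.mk i i) := by
    rw [discUniv, RingHom.map_det]
    have : ψ.mapMatrix (univPolarMat n) =
        Matrix.diagonal fun i => 2 * MvPolynomial.X (Sym2.mk i i) := by
      ext1 i j
      by_cases h : i = j
      · subst h; simp [ψ, univPolarMat, map_mul, map_ofNat]
      · simp [ψ, univPolarMat, h]
    rw [this, Matrix.det_diagonal, Finset.prod_mul_distrib, Finset.prod_const, Finset.card_univ,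
      Fintype.card_fin]
  have hψh : ψ (halfDiscUniv n) = 2 ^ (n - 1) * ∏ i, MvPolynomial.X (Sym2.mk i i) := by
    apply mul_left_cancel₀ (by rw [← map_ofNat (MvPolynomial.C (R := ℤ) (σ := Sym2 (Fin n))) 2, Ne, MvPolynomial.C_eq_zero]; norm_num : (2 : MvPolynomial (Sym2 (Fin n)) ℤ) ≠ 0)
    rw [← map_ofNat ψ 2, ← map_mul, two_mul_halfDiscUniv ho, hψd, map_ofNat, ← mul_assoc,
      ← pow_succ']
    congr 2; omega
  apply hu.ne_zero
  rw [← hψ, RingHom.comp_apply, hψh, map_mul, map_pow, map_ofNat, h2, zero_pow (by omega), zero_mul]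

theorem rankTwo_of_isNondeg {R : Type u} [CommRing R] {n : ℕ} (hn : 2 ≤ n)
    (Q : QuadraticForm R (Fin n → R))
    (hQ : QuadGrp.IsNondeg (Pi.basisFun R (Fin n)) (LinearEquiv.refl R R) Q) : RankTwo Q := by
  rcases Nat.even_or_odd n with h | h
  · exact rankTwo_of_isRegular hn Q (hQ.1 h)
  · exact rankTwo_of_isSemiregular hn h Q (hQ.2 h)

end Groth.Agent.QuadCentre
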